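import Cfsg.Agent.Lib.SubgroupTrans.Planes
import Cfsg.Agent.Lib.TransLinear.Transitive
import Cfsg.Agent.Lib.TransLinear.Regular
import Cfsg.Agent.Lib.Hall.Basic
import Cfsg.Agent.Lib.TwistAut.Semilinear

/-!
Solvable linear groups containing the scalars which are transitive on the points and on the
subgroups of order `q ^ 2`: one-dimensional semilinear of degree 3, or of degree 5 over two elements.
-/

set_option autoImplicit false
set_option linter.style.haveILetI false
set_option linter.unusedSectionVars false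
set_option maxHeartbeats 800000

namespace CfsgLib.SubgroupTrans

variable {q : ℕ} [hq : Fact q.Prime] {V : Type*} [AddCommGroup V] [Finite V]
  [Module (ZMod q) V] [Nontrivial V] {Y : Type*} [Group Y] [Finite Y]
  {ρ : Y →* (V ≃ₗ[ZMod q] V)}

/-- The fixed subgroup of an element. -/
def fixSub (ρ : Y →* (V ≃ₗ[ZMod q] V)) (x : Y) : AddSubgroup V where
  carrier := {v | ρ x v = v}
  zero_mem' := map_zero _
  add_mem' {a b} ha hb := by
    show ρ x (a + b) = a + b
    rw [map_add, show ρ x a = a from ha, show ρ x b = b from hb]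
  neg_mem' {a} ha := by
    show ρ x (-a) = -a
    rw [map_neg, show ρ x a = a from ha]

theorem fixed_modEq {r : ℕ} [Fact r.Prime] {R : Subgroup Y} (hR : IsPGroup r R) :
    Nat.card {v : V // ∀ x ∈ R, ρ x v = v} ≡ Nat.card V [MOD r] := by
  letI : MulAction R V :=
    { smul := fun z v => ρ (z : Y) v
      one_smul := fun v => by show ρ ((1 : R) : Y) v = v; rw [OneMemClass.coe_one, map_one]; rfl
      mul_smul := fun a b v => by
        show ρ ((a * b : R) : Y) v = ρ (a : Y) (ρ (b : Y) v)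
        rw [Subgroup.coe_mul, map_mul]; rfl }
  refine ((hR.card_modEq_card_fixedPoints V).trans (congrArg (· % r) (Nat.card_congr
    { toFun := fun v => ⟨v.1, fun x hx => v.2 ⟨x, hx⟩⟩
      invFun := fun v => ⟨v.1, fun x => v.2 x.1 x.2⟩
      left_inv := fun _ => rfl
      right_inv := fun _ => rfl }))).symm

theorem fixSub_card_modEq {r : ℕ} [Fact r.Prime] {x : Y} (hx : orderOf x = r) :
    Nat.card (fixSub ρ x) ≡ Nat.card V [MOD r] := by
  refine Nat.ModEq.trans (congrArg (· % r) (Nat.card_congr ?_)) (fixed_modEq (ρ := ρ) (R := Subgroup.zpowers x)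
    (IsPGroup.of_card (n := 1) (by rw [Nat.card_zpowers, hx, pow_one])))
  refine
    { toFun := fun v => ⟨v.1, fun y hy => ?_⟩
      invFun := fun v => ⟨v.1, v.2 x (Subgroup.mem_zpowers x)⟩
      left_inv := fun _ => rfl
      right_inv := fun _ => rfl }
  obtain ⟨i, rfl⟩ := (mem_powers_iff_mem_zpowers (x := x) (y := y)).mpr hy
  exact CfsgLib.TransLinear.pow_apply_of_fixed v.2 i

/-- The possible numbers of fixed points of an element of order 5 or 13 on 81 vectors. -/
theorem fixSub_eighty_one (hρ : Function.Injective ρ) (h81 : Nat.card V = 81) {r : ℕ} {x : Y}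
    (hr : r = 5 ∨ r = 13) (hx : orderOf x = r) :
    Nat.card (fixSub ρ x) = (if r = 5 then 1 else 3) := by
  haveI : Fact r.Prime := ⟨by rcases hr with rfl | rfl <;> norm_num⟩
  have hdvd : Nat.card (fixSub ρ x) ∣ 3 ^ 4 := by
    have := (fixSub ρ x).card_addSubgroup_dvd_card
    rwa [h81] at this
  obtain ⟨j, hj, he⟩ := (Nat.dvd_prime_pow (by norm_num : Nat.Prime 3)).mp hdvd
  have hne : j ≠ 4 := by
    rintro rfl
    have htop : fixSub ρ x = ⊤ := AddSubgroup.eq_top_of_card_eq _ (by rw [he, h81]; norm_num)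
    have h1 : x = 1 := hρ (LinearEquiv.ext fun v => by
      rw [map_one]
      exact (htop ▸ AddSubgroup.mem_top v : v ∈ fixSub ρ x))
    rw [h1, orderOf_one] at hx
    exact (Fact.out : r.Prime).ne_one hx.symm
  have hmod := fixSub_card_modEq (ρ := ρ) hx
  rw [he, h81] at hmod
  rw [he]
  rcases hr with rfl | rfl <;> interval_cases j <;> simp_all [Nat.ModEq]

/-- No group with elements of orders 5 and 13 normalizes a fixed line. -/
theorem false_of_line (hρ : Function.Injective ρ) (h81 : Nat.card V = 81) {x h : Y}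
    (hx : orderOf x = 13) (hh : orderOf h = 5) {v : V} (hv : v ≠ 0) (hxv : ρ x v = v)
    (hxh : ρ x (ρ h v) = ρ h v) : False := by
  have h5 := fixSub_eighty_one hρ h81 (Or.inl rfl) hh
  have h13 := fixSub_eighty_one hρ h81 (Or.inr rfl) hx
  simp only [if_true] at h5
  norm_num at h13
  have hexp : ∀ u : V, q • u = 0 := exp_zero
  have hq3 : q = 3 := by
    have hd : q ∣ Nat.card V := addOrderOf_eq hexp hv ▸ addOrderOf_dvd_natCard v
    rw [h81] at hd
    exact (Nat.prime_dvd_prime_iff_eq hq.out (by norm_num)).mp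
      (hq.out.dvd_of_dvd_pow (show q ∣ 3 ^ 4 from hd))
  have hline : fixSub ρ x = AddSubgroup.zmultiples v :=
    (AddSubgroup.eq_of_le_of_card_ge (AddSubgroup.zmultiples_le.mpr hxv)
      (le_of_eq (by rw [h13, card_zmultiples hexp hv, hq3]))).symm
  have hmem : ρ h v ∈ AddSubgroup.zmultiples v := hline ▸ hxh
  obtain ⟨c, hc⟩ := AddSubgroup.mem_zmultiples_iff.mp hmem
  have hp : ∀ i : ℕ, ρ (h ^ i) v = ((c : ZMod q) ^ i) • v := by
    intro i
    induction i with
    | zero => rw [pow_zero, map_one, pow_zero, one_smul]; rfl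
    | succ i ih =>
      rw [pow_succ, map_mul, LinearEquiv.mul_apply, ← hc, map_zsmul, ih, ← Int.cast_smul_eq_zsmul (ZMod q),
        smul_smul, ← pow_succ']
  have hfive := hp 5
  rw [← hh, pow_orderOf_eq_one, map_one] at hfive
  have hc5 : ((c : ZMod q) ^ 5) = 1 := smul_left_injective (ZMod q) hv
    (by simpa [hh] using hfive.symm)
  have hc1 : (c : ZMod q) = 1 := by
    have key : ∀ a : ZMod 3, a ^ 5 = 1 → a = 1 := by decide
    subst hq3
    exact key _ hc5
  have hfix : ρ h v = v := by rw [← hc, ← Int.cast_smul_eq_zsmul (ZMod q), hc1, one_smul]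
  have hb : fixSub ρ h = ⊥ := AddSubgroup.eq_bot_of_card_eq _ h5
  exact hv ((AddSubgroup.mem_bot).mp (hb ▸ hfix : v ∈ (⊥ : AddSubgroup V)))

/-- There is no solvable group of linear maps of 81 vectors with order divisible by 5 and 13. -/
theorem false_of_eighty_one (hρ : Function.Injective ρ) [Group.IsSolvable Y]
    (h81 : Nat.card V = 81) (h5 : 5 ∣ Nat.card Y) (h13 : 13 ∣ Nat.card Y) : False := by
  classical
  set a := (Nat.card Y).factorization 5
  set b := (Nat.card Y).factorization 13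
  have hm : 5 ^ a * 13 ^ b ∣ Nat.card Y :=
    Nat.Coprime.mul_dvd_of_dvd_of_dvd (Nat.Coprime.pow a b (by norm_num))
      (Nat.ordProj_dvd _ 5) (Nat.ordProj_dvd _ 13)
  obtain ⟨n, hn⟩ := hm
  have hne : Nat.card Y ≠ 0 := Nat.card_pos.ne'
  have hnot : ∀ r : ℕ, r.Prime → (r = 5 ∨ r = 13) → ¬ r ∣ n := by
    rintro r hr (rfl | rfl) hrn
    · apply Nat.pow_succ_factorization_not_dvd hne hr
      show 5 ^ (a + 1) ∣ Nat.card Y
      rw [pow_succ, hn]
      exact Nat.mul_dvd_mul (dvd_mul_right _ _) hrn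
    · apply Nat.pow_succ_factorization_not_dvd hne hr
      show 13 ^ (b + 1) ∣ Nat.card Y
      rw [pow_succ, hn]
      exact Nat.mul_dvd_mul (dvd_mul_left _ _) hrn
  have hcop : (5 ^ a * 13 ^ b).Coprime n := Nat.Coprime.mul_left
    ((((by norm_num : Nat.Prime 5).coprime_iff_not_dvd).mpr (hnot 5 (by norm_num) (Or.inl rfl))).pow_left a)
    ((((by norm_num : Nat.Prime 13).coprime_iff_not_dvd).mpr (hnot 13 (by norm_num) (Or.inr rfl))).pow_left b)
  obtain ⟨H, hH⟩ := CfsgLib.Hall.exists_hall hn hcop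
  have ha : a ≠ 0 := ((by norm_num : Nat.Prime 5).factorization_pos_of_dvd hne h5).ne'
  have hb : b ≠ 0 := ((by norm_num : Nat.Prime 13).factorization_pos_of_dvd hne h13).ne'
  haveI : Fact (Nat.Prime 5) := ⟨by norm_num⟩
  haveI : Fact (Nat.Prime 13) := ⟨by norm_num⟩
  obtain ⟨x, hx⟩ := exists_prime_orderOf_dvd_card' (G := H) 13
    (hH ▸ (dvd_pow_self 13 hb).mul_left _)
  obtain ⟨h, hh⟩ := exists_prime_orderOf_dvd_card' (G := H) 5
    (hH ▸ (dvd_pow_self 5 ha).mul_right _)
  haveI : Nontrivial H := Finite.one_lt_card_iff_nontrivial.mp (hH ▸ Nat.lt_of_lt_of_le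
    (Nat.one_lt_pow ha (by norm_num : 1 < 5)) (Nat.le_mul_of_pos_right _ (by positivity)))
  haveI : Group.IsSolvable H := solvable_of_solvable_injective H.subtype_injective
  obtain ⟨r, hr, M, hMn, hM1, hMp, hMc⟩ := CfsgLib.Hall.exists_normal_pgroup_ne_bot (G := H)
  haveI := Fact.mk hr
  haveI := hMn
  obtain ⟨k, hk⟩ := IsPGroup.iff_card.mp hMp
  have hk0 : k ≠ 0 := fun e => hM1 (Subgroup.eq_bot_of_card_eq _ (by rw [hk, e, pow_zero]))
  obtain ⟨m, hm⟩ := exists_prime_orderOf_dvd_card' (G := M) r (hk ▸ dvd_pow_self r hk0)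
  set ρH := ρ.comp H.subtype
  have hρH : Function.Injective ρH := hρ.comp H.subtype_injective
  have hmo : orderOf (m : H) = r := by rw [Subgroup.orderOf_coe, hm]
  have hr5 : r = 5 ∨ r = 13 := by
    have hd : r ∣ 5 ^ a * 13 ^ b := hH ▸ hmo ▸ orderOf_dvd_natCard (m : H)
    rcases hr.dvd_mul.mp hd with h' | h'
    · exact Or.inl ((Nat.prime_dvd_prime_iff_eq hr (by norm_num)).mp (hr.dvd_of_dvd_pow h'))
    · exact Or.inr ((Nat.prime_dvd_prime_iff_eq hr (by norm_num)).mp (hr.dvd_of_dvd_pow h'))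
  rcases hr5 with rfl | rfl
  · -- the elements of order five act freely, so `M` is cyclic
    have hreg : ∀ v : V, v ≠ 0 → ∀ g : M, ρH.comp M.subtype g v = v → g = 1 := by
      intro v hv g hg
      by_contra hg1
      obtain ⟨i, hi⟩ := IsPGroup.iff_orderOf.mp hMp g
      have hi0 : i ≠ 0 := by rintro rfl; exact hg1 (orderOf_eq_one_iff.mp (by rw [hi, pow_zero]))
      have hy : orderOf (((g ^ 5 ^ (i - 1) : M) : H)) = 5 := by
        rw [Subgroup.orderOf_coe, orderOf_pow_of_dvd (by positivity) (hi ▸ pow_dvd_pow 5 (Nat.sub_le i 1)),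
          hi, Nat.pow_div (Nat.sub_le i 1) (by norm_num), show i - (i - 1) = 1 by omega, pow_one]
      have h1 := fixSub_eighty_one hρH h81 (Or.inl rfl) hy
      simp only [if_true] at h1
      have hfix : v ∈ fixSub ρH ((g ^ 5 ^ (i - 1) : M) : H) :=
        CfsgLib.TransLinear.pow_apply_of_fixed (ρ := ρH.comp M.subtype) hg _
      rw [AddSubgroup.eq_bot_of_card_eq _ h1] at hfix
      exact hv (AddSubgroup.mem_bot.mp hfix)
    have hcycT : IsCyclic (⊤ : Subgroup M) := CfsgLib.TransLinear.isCyclic_of_odd hreg (r := 5)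
      (by norm_num) (hMp.to_subgroup ⊤)
    haveI : IsCyclic M := isCyclic_of_surjective (Subgroup.topEquiv (G := M)).toMonoidHom
      (Subgroup.topEquiv (G := M)).surjective
    have hcom : MulAut.conjNormal x (H := M) = 1 := by
      refine orderOf_eq_one_iff.mp (Nat.eq_one_of_dvd_coprimes ?_ (orderOf_map_dvd _ x)
        (orderOf_dvd_natCard _))
      rw [hx, IsCyclic.card_mulAut, hk, Nat.totient_prime_pow hr (by omega)]
      exact Nat.Coprime.mul_right ((by norm_num : Nat.Coprime 13 5).pow_right _) (by norm_num)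
    have hxm : x * (m : H) = (m : H) * x := by
      have := congrArg Subtype.val (DFunLike.congr_fun hcom m)
      rw [MulAut.conjNormal_apply, MulAut.one_apply] at this
      exact mul_inv_eq_iff_eq_mul.mp this
    have h13' := fixSub_eighty_one hρH h81 (Or.inr rfl) hx
    norm_num at h13'
    obtain ⟨v, hv, hv0⟩ := (fixSub ρH x).bot_or_exists_ne_zero.resolve_left fun e => by
      rw [e, AddSubgroup.card_bot] at h13'; omega
    refine false_of_line (ρ := ρH) hρH h81 hx hmo hv0 hv ?_
    rw [← LinearEquiv.mul_apply, ← map_mul, hxm, map_mul, LinearEquiv.mul_apply]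
    exact congrArg _ hv
  · have hmod := fixed_modEq (ρ := ρH) hMp
    rw [h81] at hmod
    have : ∃ v : V, v ≠ 0 ∧ ∀ y ∈ M, ρH y v = v := by
      by_contra hno
      push Not at hno
      haveI : Subsingleton {v : V // ∀ y ∈ M, ρH y v = v} := ⟨fun u w => by
        have hz : ∀ t : {v : V // ∀ y ∈ M, ρH y v = v}, t.1 = 0 := fun t => by
          by_contra ht
          obtain ⟨y, hy, hne⟩ := hno t.1 ht
          exact hne (t.2 y hy)
        exact Subtype.ext ((hz u).trans (hz w).symm)⟩
      have h1 : Nat.card {v : V // ∀ y ∈ M, ρH y v = v} = 1 :=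
        Nat.card_eq_one_iff_unique.mpr ⟨inferInstance, ⟨⟨0, fun y _ => map_zero _⟩⟩⟩
      rw [h1] at hmod
      exact absurd hmod (by decide)
    obtain ⟨v, hv0, hv⟩ := this
    refine false_of_line (ρ := ρH) hρH h81 hmo hh hv0 (hv _ m.2) ?_
    have hconj : h⁻¹ * (m : H) * h ∈ M := hMn.conj_mem' _ m.2 h
    have := congrArg (ρH h) (hv _ hconj)
    rwa [← LinearEquiv.mul_apply, ← map_mul, show h * (h⁻¹ * (m : H) * h) = (m : H) * h by group,
      map_mul, LinearEquiv.mul_apply] at this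

theorem arith_degree {q n : ℕ} (hq : 2 ≤ q) (hn : 3 ≤ n) (h : q ^ (n - 1) - 1 ∣ n * (q ^ 2 - 1)) :
    n = 3 ∨ (n = 5 ∧ q = 2) := by
  have hsq : 4 ≤ q ^ 2 := by nlinarith
  rcases Nat.lt_or_ge n 6 with hlt | hge
  · interval_cases n
    · exact Or.inl rfl
    · exfalso
      simp only [show 4 - 1 = 3 from rfl] at h
      have hq1 : 1 ≤ q ^ 3 := Nat.one_le_pow _ _ (by omega)
      have e1 : q ^ 3 - 1 = (q ^ 2 + q + 1) * (q - 1) := by
        zify [hq1, (by omega : 1 ≤ q)]; ring
      have e2 : 4 * (q ^ 2 - 1) = (4 * (q + 1)) * (q - 1) := by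
        zify [(by omega : 1 ≤ q ^ 2), (by omega : 1 ≤ q)]; ring
      rw [e1, e2] at h
      have h' := Nat.dvd_of_mul_dvd_mul_right (by omega) h
      have hle := Nat.le_of_dvd (by omega) h'
      have : q ≤ 3 := by nlinarith
      interval_cases q <;> norm_num at h'
    · right
      simp only [show 5 - 1 = 4 from rfl] at h
      have e1 : q ^ 4 - 1 = (q ^ 2 + 1) * (q ^ 2 - 1) := by
        zify [Nat.one_le_pow 4 q (by omega), (by omega : 1 ≤ q ^ 2)]; ring
      rw [e1] at h
      have h' := Nat.dvd_of_mul_dvd_mul_right (by omega) h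
      have hle := Nat.le_of_dvd (by omega) h'
      exact ⟨rfl, by nlinarith⟩
  · exfalso
    have hgrow : ∀ k, (k + 6) * q ^ 2 < q ^ (k + 5) := by
      intro k
      induction k with
      | zero =>
        have : 8 ≤ q ^ 3 := by nlinarith
        calc (0 + 6) * q ^ 2 < q ^ 3 * q ^ 2 := Nat.mul_lt_mul_of_pos_right (by omega) (by omega)
          _ = q ^ (0 + 5) := by ring
      | succ k ih =>
        calc (k + 1 + 6) * q ^ 2 ≤ 2 * ((k + 6) * q ^ 2) := by nlinarith
          _ < 2 * q ^ (k + 5) := by omega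
          _ ≤ q * q ^ (k + 5) := Nat.mul_le_mul_right _ hq
          _ = q ^ (k + 1 + 5) := by ring
    obtain ⟨k, rfl⟩ : ∃ k, n = k + 6 := ⟨n - 6, by omega⟩
    have h1 := hgrow k
    have h2 := Nat.le_of_dvd (Nat.mul_pos (by omega) (by omega)) h
    rw [show k + 6 - 1 = k + 5 by omega] at h2
    have h3 : (k + 6) * (q ^ 2 - 1) < (k + 6) * q ^ 2 :=
      Nat.mul_lt_mul_of_pos_left (by omega) (by omega)
    omega

/-- The order of a group of one-dimensional semilinear maps. -/
theorem semilinear_card {F : Type*} [Field F] [Fintype F] {n : ℕ} [CharP F q]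
    (hF : Fintype.card F = q ^ n) (hρ : Function.Injective ρ) (e : V ≃+ F)
    (hsemi : ∀ g : Y, ∃ (a : F) (σ : F ≃+* F), ∀ v : V, e (ρ g v) = a * σ (e v)) :
    Nat.card Y ∣ n * (q ^ n - 1) ∧
      ((Nat.card Y).Coprime n → ∀ g : Y, ∃ a : F, ∀ v : V, e (ρ g v) = a * e v) := by
  classical
  choose a σ hσ using hsemi
  have ha : ∀ g, a g ≠ 0 := by
    intro g h0
    have h : e.symm 1 = 0 := by
      apply (ρ g).injective
      apply e.injective
      rw [map_zero, map_zero, hσ, h0, zero_mul]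
    exact one_ne_zero (e.symm.map_eq_zero_iff.mp h)
  have key : ∀ g h u, a (g * h) * σ (g * h) u = a g * σ g (a h * σ h u) := by
    intro g h u
    have h1 := hσ (g * h) (e.symm u)
    rw [map_mul, LinearEquiv.mul_apply, hσ, hσ, AddEquiv.apply_symm_apply] at h1
    exact h1.symm
  have hamul : ∀ g h, a (g * h) = a g * σ g (a h) := fun g h => by simpa using key g h 1
  have hsmul : ∀ g h, σ (g * h) = σ g * σ h := by
    intro g h
    refine RingEquiv.ext fun u => mul_left_cancel₀ (ha (g * h)) ?_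
    rw [key, map_mul, ← mul_assoc, ← hamul]
    rfl
  let s : Y →* (F ≃+* F) := MonoidHom.mk' σ hsmul
  have hker : Nat.card s.ker ∣ q ^ n - 1 := by
    let t : s.ker →* Fˣ := MonoidHom.mk' (fun g => Units.mk0 (a g.1) (ha g.1)) fun g h => by
      refine Units.ext ?_
      show a (g.1 * h.1) = a g.1 * a h.1
      have hg : σ g.1 = 1 := g.2
      rw [hamul, hg]
      rfl
    have ht : Function.Injective t := by
      intro g h hgh
      have hab : a g.1 = a h.1 := congrArg Units.val hgh
      have hg : σ g.1 = 1 := g.2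
      have hh : σ h.1 = 1 := h.2
      refine Subtype.ext (hρ (LinearEquiv.ext fun v => e.injective ?_))
      rw [hσ, hσ, hab, hg, hh]
    refine (Subgroup.card_dvd_of_injective t ht).trans (dvd_of_eq ?_)
    rw [Nat.card_units, Nat.card_eq_fintype_card, hF]
  have haut : Nat.card (F ≃+* F) = n := CfsgLib.TwistAut.card_ringAut q n hF
  have hrange : Nat.card s.range ∣ n := haut ▸ s.range.card_subgroup_dvd_card
  have hcard : Nat.card Y = Nat.card s.range * Nat.card s.ker := by
    rw [s.ker.card_eq_card_quotient_mul_card_subgroup,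
      Nat.card_congr (QuotientGroup.quotientKerEquivRange s).toEquiv]
  refine ⟨hcard ▸ Nat.mul_dvd_mul hrange hker, fun hco g => ⟨a g, fun v => ?_⟩⟩
  have h1 : s g = 1 := orderOf_eq_one_iff.mp (Nat.eq_one_of_dvd_coprimes hco
    ((orderOf_map_dvd s g).trans (orderOf_dvd_natCard g)) (haut ▸ orderOf_dvd_natCard (s g)))
  rw [hσ, show σ g = 1 from h1]
  rfl

/-- The linear-group part of the theorem. -/
theorem main (hρ : Function.Injective ρ) [Group.IsSolvable Y] {n : ℕ} (hn : 3 ≤ n)
    (hV : Nat.card V = q ^ n)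
    (hscal : ∀ a : (ZMod q)ˣ, ∃ z, ∀ v : V, ρ z v = (a : ZMod q) • v)
    (htr1 : ∀ v w : V, v ≠ 0 → w ≠ 0 → ∃ y, ρ y v = w)
    (htr2 : ∀ W W' : AddSubgroup V, Nat.card W = q ^ 2 → Nat.card W' = q ^ 2 →
      ∃ y, W.map (ρ y).toAddEquiv.toAddMonoidHom = W') :
    (∃ e : V ≃+ GaloisField q n,
      ∀ y : Y, ∃ (a : GaloisField q n) (σ : GaloisField q n ≃+* GaloisField q n),
        ∀ v : V, e (ρ y v) = a * σ (e v)) ∧
      (n = 3 ∨ (n = 5 ∧ q = 2)) ∧
      (q ^ n - 1 ∣ Nat.card Y) ∧
      (n = 5 → q = 2 → Nat.card Y = 155) := by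
  classical
  haveI := Fintype.ofFinite V
  have hq2 := hq.out.two_le
  have hexp : ∀ v : V, q • v = 0 := exp_zero
  -- a subgroup of order `q ^ 2`
  obtain ⟨W₀, hW₀⟩ : ∃ W : AddSubgroup V, Nat.card W = q ^ 2 := by
    obtain ⟨v, hv⟩ := exists_ne (0 : V)
    obtain ⟨w, hw⟩ : ∃ w, w ∉ AddSubgroup.zmultiples v := by
      by_contra hno
      push Not at hno
      have htop : AddSubgroup.zmultiples v = ⊤ := eq_top_iff.mpr fun w _ => hno w
      have := card_zmultiples hexp hv
      rw [htop, AddSubgroup.card_top, hV] at this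
      have : q ^ 1 < q ^ n := Nat.pow_lt_pow_right hq.out.one_lt (by omega)
      simp at this
      omega
    exact ⟨_, card_closure_pair (q := q) ⟨(v, w), hv, hw⟩⟩
  have hdvd := planes_dvd hρ hscal htr2 W₀ hW₀
  have hmul := card_planes_mul (q := q) (V := V)
  rw [hV] at hmul
  set N₂ := Nat.card {W : AddSubgroup V // Nat.card W = q ^ 2}
  have hvec : q ^ n - 1 ∣ Nat.card Y := hV ▸ CfsgLib.TransLinear.card_sub_one_dvd htr1
  have h81 : ¬ (q = 3 ∧ n = 4) := by
    rintro ⟨rfl, rfl⟩
    have hN : N₂ = 130 := by norm_num at hmul; omega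
    rw [hN] at hdvd
    exact false_of_eighty_one hρ (by rw [hV]; norm_num) ((by norm_num : (5 : ℕ) ∣ 130 * (3 - 1)).trans hdvd)
      ((by norm_num : (13 : ℕ) ∣ 130 * (3 - 1)).trans hdvd)
  rcases CfsgLib.TransLinear.transitive_main hρ htr1 with ⟨F, _, _, e, hsemi⟩ | hsmall
  swap
  · exfalso
    rw [hV] at hsmall
    simp only [Set.mem_insert_iff, Set.mem_singleton_iff] at hsmall
    have hb : q ^ n ≤ 529 := by omega
    have hq8 : q ≤ 8 := by
      by_contra hq9
      have h1 : 9 ^ 3 ≤ q ^ n := (Nat.pow_le_pow_left (by omega) 3).trans (Nat.pow_le_pow_right (by omega) hn)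
      omega
    have hn9 : n ≤ 9 := by
      by_contra hn10
      have h1 : 2 ^ 10 ≤ q ^ n := (Nat.pow_le_pow_left hq2 10).trans (Nat.pow_le_pow_right (by omega) (by omega))
      omega
    interval_cases q <;> interval_cases n <;> simp_all
  · have hFcard : Fintype.card F = q ^ n := by
      rw [← Nat.card_eq_fintype_card, ← Nat.card_congr e.toEquiv, hV]
    have hG : Nat.card (GaloisField q n) = q ^ n := GaloisField.card q n (by omega)
    letI : Fintype (GaloisField q n) := Fintype.ofFinite _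
    have hGF : Fintype.card (GaloisField q n) = q ^ n := by rw [← Nat.card_eq_fintype_card, hG]
    let ψ : F ≃+* GaloisField q n := FiniteField.ringEquivOfCardEq (hFcard.trans hGF.symm)
    have hsemi' : ∀ y : Y, ∃ (a : GaloisField q n) (σ : GaloisField q n ≃+* GaloisField q n),
        ∀ v : V, (e.trans ψ.toAddEquiv) (ρ y v) = a * σ ((e.trans ψ.toAddEquiv) v) := by
      intro y
      obtain ⟨a, σ, h⟩ := hsemi y
      exact ⟨ψ a, (ψ.symm.trans σ).trans ψ, fun v => by simp [h]⟩
    have hY := (semilinear_card hGF hρ _ hsemi').1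
    have hkey : q ^ (n - 1) - 1 ∣ n * (q ^ 2 - 1) := by
      have h1 : N₂ * (q - 1) * ((q ^ 2 - 1) * (q ^ 2 - q)) ∣
          (n * (q ^ n - 1)) * ((q ^ 2 - 1) * (q ^ 2 - q)) := Nat.mul_dvd_mul_right (hdvd.trans hY) _
      have e1 : q ^ 2 - q = q * (q - 1) := by rw [Nat.mul_sub, mul_one, pow_two]
      have e2 : q ^ n - q = q * (q ^ (n - 1) - 1) := by
        rw [Nat.mul_sub, mul_one, ← pow_succ', show n - 1 + 1 = n by omega]
      have e3 : N₂ * (q - 1) * ((q ^ 2 - 1) * (q ^ 2 - q)) =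
          ((q ^ n - 1) * (q - 1) * q) * (q ^ (n - 1) - 1) := by
        calc N₂ * (q - 1) * ((q ^ 2 - 1) * (q ^ 2 - q))
            = (N₂ * ((q ^ 2 - 1) * (q ^ 2 - q))) * (q - 1) := by ring
          _ = _ := by rw [hmul, e2]; ring
      have e4 : (n * (q ^ n - 1)) * ((q ^ 2 - 1) * (q ^ 2 - q)) =
          ((q ^ n - 1) * (q - 1) * q) * (n * (q ^ 2 - 1)) := by rw [e1]; ring
      rw [e3, e4] at h1
      have hpos : 1 < q ^ n := Nat.one_lt_pow (by omega) hq.out.one_lt
      exact Nat.dvd_of_mul_dvd_mul_left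
        (Nat.mul_pos (Nat.mul_pos (by omega) (by omega)) (by omega)) h1
    refine ⟨⟨_, hsemi'⟩, arith_degree hq2 hn hkey, hvec, ?_⟩
    rintro rfl rfl
    have hN : N₂ = 155 := by norm_num at hmul; omega
    rw [hN] at hdvd
    norm_num at hdvd hY
    exact Nat.dvd_antisymm hY hdvd

end CfsgLib.SubgroupTrans
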