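import Cfsg.Prelude.Def_Transfer
import Cfsg.Prelude.Def_CaseTheorems
import Cfsg.Prelude.Def_Perm
import Cfsg.Agent.Lib.SubgroupTrans.Linear
import Cfsg.Agent.Lib.Groups.SelfCentPrime

/-!
A group with an elementary abelian normal Sylow subgroup whose subgroups of equal order are
conjugate: the quotient by the `p'`-core is a group of one-dimensional semiaffine maps.
-/

set_option autoImplicit false
set_option linter.style.haveILetI false
set_option maxHeartbeats 1600000

namespace CfsgLib.SubgroupTrans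

/-- Burnside fusion for subgroups of an abelian Sylow subgroup. -/
theorem fusion {G : Type*} [Group G] [Finite G] {p : ℕ} [Fact p.Prime] (P : Sylow p G)
    (hab : IsMulCommutative (P : Subgroup G)) {H K : Subgroup G} (hH : H ≤ (P : Subgroup G))
    (hK : K ≤ (P : Subgroup G)) (g : G) (hg : K = H.map (MulAut.conj g).toMonoidHom) :
    ∃ n ∈ Subgroup.normalizer ((P : Subgroup G) : Set G), ∀ h ∈ H, n * h * n⁻¹ ∈ K := by
  have hcomm : ∀ a ∈ (P : Subgroup G), ∀ b ∈ (P : Subgroup G), a * b = b * a := fun a ha b hb =>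
    congrArg Subtype.val (mul_comm' (⟨a, ha⟩ : (P : Subgroup G)) ⟨b, hb⟩)
  have hgK : ∀ h ∈ H, g * h * g⁻¹ ∈ K := fun h hh => hg ▸ ⟨h, hh, rfl⟩
  set C := Subgroup.centralizer (K : Set G)
  have hPC : (P : Subgroup G) ≤ C := fun y hy => Subgroup.mem_centralizer_iff.mpr fun k hk =>
    hcomm k (hK hk) y hy
  have hQC : ((g • P : Sylow p G) : Subgroup G) ≤ C := by
    rw [Sylow.coe_subgroup_smul]
    intro y hy
    obtain ⟨y₀, hy₀, rfl⟩ := Subgroup.mem_map.mp hy
    refine Subgroup.mem_centralizer_iff.mpr fun k hk => ?_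
    obtain ⟨h, hh, rfl⟩ := Subgroup.mem_map.mp (hg ▸ hk)
    show g * h * g⁻¹ * (g * y₀ * g⁻¹) = g * y₀ * g⁻¹ * (g * h * g⁻¹)
    calc g * h * g⁻¹ * (g * y₀ * g⁻¹) = g * (h * y₀) * g⁻¹ := by group
      _ = g * (y₀ * h) * g⁻¹ := by rw [hcomm h (hH hh) y₀ hy₀]
      _ = _ := by group
  obtain ⟨c, hc⟩ := MulAction.exists_smul_eq C ((g • P).subtype hQC) (P.subtype hPC)
  rw [Sylow.smul_subtype] at hc
  have hc' : (c : G) • g • P = P := Sylow.subtype_injective hc
  refine ⟨(c : G) * g, Sylow.smul_eq_iff_mem_normalizer.mp (by rw [mul_smul]; exact hc'), fun h hh => ?_⟩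
  have h1 := hgK h hh
  have h2 := Subgroup.mem_centralizer_iff.mp c.2 _ h1
  rw [show (c : G) * g * h * ((c : G) * g)⁻¹ = (c : G) * (g * h * g⁻¹) * (c : G)⁻¹ by group,
    ← h2, mul_inv_cancel_right]
  exact h1

/-- Automorphisms of an elementary abelian group as linear maps. -/
def linAut (p : ℕ) (A : Type*) [CommGroup A] [Module (ZMod p) (Additive A)] :
    MulAut A →* (Additive A ≃ₗ[ZMod p] Additive A) where
  toFun e :=
    { MulEquiv.toAdditive e with
      map_smul' := fun c v => ZMod.map_smul (MulEquiv.toAdditive e).toAddMonoidHom c v }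
  map_one' := LinearEquiv.ext fun _ => rfl
  map_mul' _ _ := LinearEquiv.ext fun _ => rfl

theorem card_semiaffine_le (p n : ℕ) [Fact p.Prime] (hn : n ≠ 0) :
    Nat.card (Cfsg.semiaffineGroup (GaloisField p n)) ≤ p ^ n * (p ^ n - 1) * n ∧
      Nat.card (Cfsg.affineGroup (GaloisField p n)) ≤ p ^ n * (p ^ n - 1) := by
  classical
  set R := GaloisField p n
  have hR : Nat.card R = p ^ n := GaloisField.card p n hn
  letI : Fintype R := Fintype.ofFinite _
  have hu : Nat.card Rˣ = p ^ n - 1 := by rw [Nat.card_units, hR]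
  have hau : Nat.card (R ≃+* R) = n :=
    CfsgLib.TwistAut.card_ringAut p n (by rw [← Nat.card_eq_fintype_card, hR])
  haveI : Finite (R ≃+* R) := Nat.finite_of_card_ne_zero (by rw [hau]; exact hn)
  constructor
  · choose a b φ h using fun s : Cfsg.semiaffineGroup R => s.2
    have hi : Function.Injective fun s => (b s, a s, φ s) := fun s t e => by
      simp only [Prod.mk.injEq] at e
      exact Subtype.ext (Equiv.ext fun x => by rw [h, h, e.1, e.2.1, e.2.2])
    refine (Nat.card_le_card_of_injective _ hi).trans (le_of_eq ?_)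
    rw [Nat.card_prod, Nat.card_prod, hR, hu, hau, mul_assoc]
  · choose a b h using fun s : Cfsg.affineGroup R => s.2
    have hi : Function.Injective fun s => (b s, a s) := fun s t e => by
      simp only [Prod.mk.injEq] at e
      exact Subtype.ext (Equiv.ext fun x => by rw [h, h, e.1, e.2])
    refine (Nat.card_le_card_of_injective _ hi).trans (le_of_eq ?_)
    rw [Nat.card_prod, hR, hu]

theorem nonempty_mulEquiv_of_card {A B : Type*} [Group A] [Group B] [Finite B] (f : A →* B)
    (hf : Function.Injective f) (h : Nat.card B ≤ Nat.card A) : Nonempty (A ≃* B) := by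
  haveI : Finite A := Finite.of_injective f hf
  exact ⟨MulEquiv.ofBijective f ((Nat.bijective_iff_injective_and_card f).mpr
    ⟨hf, le_antisymm (Nat.card_le_card_of_injective f hf) h⟩)⟩

theorem reduce {N : Type*} [Group N] [Finite N] {p : ℕ} [hp : Fact p.Prime] (M : Subgroup N)
    [M.Normal] (n : ℕ) (hn : 3 ≤ n) (hel : Cfsg.IsElementaryAbelian p M) (hcard : Nat.card M = p ^ n)
    (hidx : ¬ p ∣ M.index)
    (hconj : ∀ H K : Subgroup N, H ≤ M → K ≤ M → Nat.card H = Nat.card K →
      ∃ g : N, ∀ h ∈ H, g * h * g⁻¹ ∈ K)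
    (hsolv : Group.IsSolvable (N ⧸ Cfsg.pPrimeCore p N)) :
    (n = 3 ∧ (∃ f : N ⧸ Cfsg.pPrimeCore p N →* ↥(Cfsg.semiaffineGroup (GaloisField p 3)), Function.Injective f) ∧
      (p = 2 → Nonempty (N ⧸ Cfsg.pPrimeCore p N ≃* Cfsg.semiaffineGroup (GaloisField 2 3)) ∨
               Nonempty (N ⧸ Cfsg.pPrimeCore p N ≃* Cfsg.affineGroup (GaloisField 2 3)))) ∨
    (n = 5 ∧ p = 2 ∧ Nonempty (N ⧸ Cfsg.pPrimeCore p N ≃* Cfsg.semiaffineGroup (GaloisField 2 5))) := by
  classical
  set K := Cfsg.pPrimeCore p N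
  haveI hKn : K.Normal := CfsgLib.SelfCent.pPrimeCore_normal' p
  have hKco : (Nat.card K).Coprime p := CfsgLib.SelfCent.pPrimeCore_coprime p
  have hMco : (Nat.card M).Coprime M.index := by
    rw [hcard]; exact ((hp.out.coprime_iff_not_dvd).mpr hidx).pow_left n
  haveI := hel.1
  letI : CommGroup M := { (inferInstance : Group M) with mul_comm := fun a b => mul_comm' a b }
  haveI : Module (ZMod p) (Additive M) := AddCommGroup.zmodModule (n := p) fun a =>
    Additive.toMul.injective (show a.toMul ^ p = 1 from Subtype.ext (hel.2 _ a.toMul.2))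
  have hM1 : 1 < Nat.card M := hcard ▸ Nat.one_lt_pow (by omega) hp.out.one_lt
  haveI : Nontrivial (Additive M) := Finite.one_lt_card_iff_nontrivial.mp hM1
  let c : N →* (Additive M ≃ₗ[ZMod p] Additive M) := (linAut p M).comp MulAut.conjNormal
  have hc : ∀ (g : N) (v : Additive M), (((c g v).toMul : M) : N) = g * ((v.toMul : M) : N) * g⁻¹ :=
    fun g v => MulAut.conjNormal_apply g v.toMul
  have hc1 : ∀ g : N, c g = 1 ↔ ∀ m ∈ M, g * m = m * g := by
    intro g
    constructor
    · intro h m hm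
      have := hc g (Additive.ofMul ⟨m, hm⟩)
      rw [h] at this
      exact mul_inv_eq_iff_eq_mul.mp this.symm
    · intro h
      refine LinearEquiv.ext fun v => Additive.toMul.injective (Subtype.ext ?_)
      rw [hc, h _ v.toMul.2, mul_inv_cancel_right]
      rfl
  -- the core, a complement
  have hKM : K ⊓ M = ⊥ := Subgroup.inf_eq_bot_of_coprime (hcard ▸ (hKco.pow_right n))
  have hKc : ∀ k ∈ K, c k = 1 := fun k hk => (hc1 k).mpr fun m hm =>
    Subgroup.commute_of_normal_of_disjoint K M hKn inferInstance (disjoint_iff.mpr hKM) k m hk hm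
  obtain ⟨X, hX⟩ := Subgroup.exists_right_complement'_of_coprime hMco
  have hXM : ∀ x ∈ M, x ∈ X → x = 1 := fun x h1 h2 => Subgroup.mem_bot.mp (hX.disjoint.le_bot ⟨h1, h2⟩)
  have hdec : ∀ g : N, ∃ a ∈ M, ∃ x ∈ X, g = a * x := fun g => by
    obtain ⟨⟨a, x⟩, hax⟩ := hX.2 g
    exact ⟨a, a.2, x, x.2, hax.symm⟩
  have hcM : ∀ m ∈ M, c m = 1 := fun m hm => (hc1 m).mpr fun m' hm' =>
    congrArg Subtype.val (mul_comm' (⟨m, hm⟩ : M) ⟨m', hm'⟩)
  have hXC : X ⊓ c.ker = K := by
    have hle : X ⊓ c.ker ≤ K := by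
      refine CfsgLib.SelfCent.le_pPrimeCore ⟨fun x hx g => ?_⟩ ?_
      · obtain ⟨a, ha, x', hx', rfl⟩ := hdec g
        have h1 : x' * x * x'⁻¹ ∈ X ⊓ c.ker :=
          ⟨X.mul_mem (X.mul_mem hx' hx.1) (X.inv_mem hx'), (MonoidHom.normal_ker c).conj_mem x hx.2 x'⟩
        have h2 : (x' * x * x'⁻¹) * a = a * (x' * x * x'⁻¹) := (hc1 _).mp h1.2 a ha
        rw [show a * x' * x * (a * x')⁻¹ = a * (x' * x * x'⁻¹) * a⁻¹ by group, ← h2,
          mul_inv_cancel_right]
        exact h1
      · refine Nat.Coprime.coprime_dvd_left (Subgroup.card_dvd_of_le inf_le_left) ?_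
        have hXi : Nat.card X = M.index := by
          rw [← Nat.mul_right_inj (a := Nat.card M) Nat.card_pos.ne', hX.card_mul, M.card_mul_index]
        rw [hXi]
        exact ((hp.out.coprime_iff_not_dvd).mpr hidx).symm
    refine le_antisymm hle fun k hk => ⟨?_, hKc k hk⟩
    obtain ⟨a, ha, x, hx, rfl⟩ := hdec k
    have hxk : x ∈ K := hle ⟨hx, by
      have h := hKc _ hk
      rw [map_mul, hcM a ha, one_mul] at h
      exact h⟩
    have hak : a ∈ K := by have h := mul_mem hk (inv_mem hxk); rwa [mul_inv_cancel_right] at h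
    rw [show a = 1 from Subgroup.mem_bot.mp (hKM ▸ ⟨hak, ha⟩), one_mul]
    exact hx
  -- the linear group
  let sc : (ZMod p)ˣ →* (Additive M ≃ₗ[ZMod p] Additive M) := MonoidHom.mk'
    (fun a => LinearEquiv.smulOfUnit a)
    fun a b => LinearEquiv.ext fun v => mul_smul (a : ZMod p) (b : ZMod p) v
  have hsc : ∀ (a : (ZMod p)ˣ) (v : Additive M), sc a v = (a : ZMod p) • v := fun a v => rfl
  let cK : N ⧸ K →* (Additive M ≃ₗ[ZMod p] Additive M) :=
    QuotientGroup.lift K c fun k hk => hKc k hk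
  have hcomm : ∀ (z : N ⧸ K) (a : (ZMod p)ˣ), Commute (cK z) (sc a) := fun z a =>
    LinearEquiv.ext fun v => by
      rw [LinearEquiv.mul_apply, LinearEquiv.mul_apply, hsc, hsc, map_smul]
  let L := MonoidHom.noncommCoprod cK sc hcomm
  haveI : Group.IsSolvable (ZMod p)ˣ := inferInstance
  haveI : Group.IsSolvable L.range :=
    solvable_of_surjective (f := L.rangeRestrict) L.rangeRestrict_surjective
  haveI : Finite (Additive M ≃ₗ[ZMod p] Additive M) := Finite.of_injective (fun e => ⇑e) DFunLike.coe_injective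
  have hL : ∀ (g : N) (a : (ZMod p)ˣ), L ((g : N ⧸ K), a) = c g * sc a := fun g a => rfl
  have hV : Nat.card (Additive M) = p ^ n := hcard
  have hscal : ∀ a : (ZMod p)ˣ, ∃ z : L.range, ∀ v, L.range.subtype z v = (a : ZMod p) • v :=
    fun a => ⟨⟨_, ⟨(((1 : N) : N ⧸ K), a), rfl⟩⟩, fun v => by
      show L (((1 : N) : N ⧸ K), a) v = _
      rw [hL, map_one, one_mul, hsc]⟩
  have hsub : ∀ m : M, Subgroup.zpowers (m : N) ≤ M := fun m => Subgroup.zpowers_le.mpr m.2
  have htr1 : ∀ v w : Additive M, v ≠ 0 → w ≠ 0 → ∃ y : L.range, L.range.subtype y v = w := by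
    intro v w hv hw
    have hord : ∀ u : Additive M, u ≠ 0 → orderOf ((u.toMul : M) : N) = p := fun u hu =>
      orderOf_eq_prime (hel.2 _ u.toMul.2) fun h => hu (Additive.toMul.injective (Subtype.ext h))
    obtain ⟨g, hg⟩ := hconj _ _ (hsub v.toMul) (hsub w.toMul)
      (by rw [Nat.card_zpowers, Nat.card_zpowers, hord v hv, hord w hw])
    obtain ⟨i, hi⟩ := Subgroup.mem_zpowers_iff.mp (hg _ (Subgroup.mem_zpowers _))
    have hgv : c g v = (i : ZMod p) • w := by
      refine Additive.toMul.injective (Subtype.ext ?_)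
      rw [hc, ← hi, Int.cast_smul_eq_zsmul]
      rfl
    have hne : (i : ZMod p) ≠ 0 := fun h0 => hv ((c g).map_eq_zero_iff.mp (by rw [hgv, h0, zero_smul]))
    refine ⟨⟨_, ⟨((g : N ⧸ K), (Units.mk0 _ hne)⁻¹), rfl⟩⟩, ?_⟩
    show L ((g : N ⧸ K), (Units.mk0 _ hne)⁻¹) v = w
    rw [hL, LinearEquiv.mul_apply, hsc, map_smul, hgv, smul_smul, Units.val_inv_eq_inv_val,
      Units.val_mk0, inv_mul_cancel₀ hne, one_smul]
  have htr2 : ∀ W W' : AddSubgroup (Additive M), Nat.card W = p ^ 2 → Nat.card W' = p ^ 2 →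
      ∃ y : L.range, W.map (L.range.subtype y).toAddEquiv.toAddMonoidHom = W' := by
    intro W W' hW hW'
    have hcs : ∀ U : AddSubgroup (Additive M),
        Nat.card ((AddSubgroup.toSubgroup' U).map M.subtype) = Nat.card U := fun U =>
      (Nat.card_congr ((AddSubgroup.toSubgroup' U).equivMapOfInjective _ M.subtype_injective).toEquiv).symm.trans rfl
    obtain ⟨g, hg⟩ := hconj _ _ (Subgroup.map_subtype_le (AddSubgroup.toSubgroup' W))
      (Subgroup.map_subtype_le (AddSubgroup.toSubgroup' W')) (by rw [hcs, hcs, hW, hW'])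
    refine ⟨⟨_, ⟨((g : N ⧸ K), 1), rfl⟩⟩, AddSubgroup.eq_of_le_of_card_ge ?_ (le_of_eq ?_)⟩
    · rintro u ⟨v, hv, rfl⟩
      show L ((g : N ⧸ K), 1) v ∈ W'
      rw [hL, map_one, mul_one]
      obtain ⟨m, hm, hme⟩ := hg _ ⟨v.toMul, hv, rfl⟩
      have : c g v = Additive.ofMul m := Additive.toMul.injective (Subtype.ext ((hc g v).trans hme.symm))
      rw [this]
      exact hm
    · rw [hW', ← hW]
      exact Nat.card_congr (W.equivMapOfInjective _ (AddEquiv.injective _)).toEquiv
  obtain ⟨⟨e, hsemi⟩, hdeg, hvec, h155⟩ :=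
    main (ρ := L.range.subtype) L.range.subtype_injective hn hV hscal htr1 htr2
  -- the affine action
  let β : M → N ⧸ X := fun m => QuotientGroup.mk (m : N)
  have hβ : Function.Bijective β := by
    refine ⟨fun a b h => ?_, fun z => ?_⟩
    · have h1 := QuotientGroup.eq.mp h
      exact Subtype.ext (inv_mul_eq_one.mp (hXM _ (mul_mem (inv_mem a.2) b.2) h1))
    · obtain ⟨g, rfl⟩ := QuotientGroup.mk_surjective z
      obtain ⟨a, ha, x, hx, rfl⟩ := hdec g
      exact ⟨⟨a, ha⟩, QuotientGroup.eq.mpr (by rw [inv_mul_cancel_left]; exact hx)⟩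
  let π : N ⧸ X ≃ GaloisField p n :=
    (Equiv.ofBijective β hβ).symm.trans (Additive.ofMul.trans e.toEquiv)
  have hπ : ∀ m : M, π (β m) = e (Additive.ofMul m) := fun m => by
    show e (Additive.ofMul ((Equiv.ofBijective β hβ).symm (β m))) = _
    rw [Equiv.ofBijective_symm_apply_apply]
  let f : N →* Equiv.Perm (GaloisField p n) :=
    π.permCongrHom.toMonoidHom.comp (MulAction.toPermHom N (N ⧸ X))
  have hf : ∀ (a : M) (x : N), x ∈ X → ∀ v : Additive M,
      f ((a : N) * x) (e v) = e (Additive.ofMul a) + e (c x v) := by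
    intro a x hx v
    show π (((a : N) * x) • π.symm (e v)) = _
    have h1 : π.symm (e v) = β v.toMul := π.symm_apply_eq.mpr (hπ v.toMul).symm
    rw [h1, ← map_add]
    have h2 : ((a : N) * x) • β v.toMul = β (a * (c x v).toMul) := by
      show (QuotientGroup.mk ((a : N) * x * ((v.toMul : M) : N)) : N ⧸ X) = _
      refine QuotientGroup.eq.mpr ?_
      rw [Subgroup.coe_mul, hc]
      have : ((a : N) * x * ((v.toMul : M) : N))⁻¹ * ((a : N) * (x * ((v.toMul : M) : N) * x⁻¹)) = x⁻¹ := by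
        group
      rw [this]
      exact inv_mem hx
    rw [h2, hπ]
    rfl
  have hf1 : ∀ g : N, f g = 1 ↔ g ∈ K := by
    intro g
    obtain ⟨a, ha, x, hx, rfl⟩ := hdec g
    constructor
    · intro h
      have h0 := hf ⟨a, ha⟩ x hx 0
      rw [h] at h0
      simp only [map_zero, add_zero, Equiv.Perm.one_apply] at h0
      have ha1 : (⟨a, ha⟩ : M) = 1 := Additive.ofMul.injective
        (e.map_eq_zero_iff.mp h0.symm)
      obtain rfl : a = 1 := congrArg Subtype.val ha1
      rw [one_mul] at h ⊢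
      have hcx : c x = 1 := by
        refine LinearEquiv.ext fun v => e.injective ?_
        have := hf 1 x hx v
        rw [OneMemClass.coe_one, one_mul, h, ofMul_one, map_zero, zero_add] at this
        exact this.symm
      rw [← hXC]
      exact ⟨hx, hcx⟩
    · intro h
      have hmem : a * x ∈ X ⊓ c.ker := by rw [hXC]; exact h
      have hax : a ∈ X := by
        have := X.mul_mem hmem.1 (X.inv_mem hx)
        rwa [mul_inv_cancel_right] at this
      obtain rfl := hXM a ha hax
      rw [one_mul] at hmem ⊢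
      refine Equiv.ext fun u => ?_
      obtain ⟨v, rfl⟩ := e.surjective u
      have := hf 1 x hx v
      rw [OneMemClass.coe_one, one_mul] at this
      rw [this, (hmem.2 : c x = 1), ofMul_one, map_zero, zero_add]
      rfl
  have hcY : ∀ x : N, c x ∈ L.range := fun x => ⟨((x : N ⧸ K), 1), by rw [hL, map_one, mul_one]⟩
  have hfa : ∀ g : N, f g ∈ Cfsg.semiaffineGroup (GaloisField p n) := by
    intro g
    obtain ⟨a, ha, x, hx, rfl⟩ := hdec g
    obtain ⟨a', σ, h⟩ := hsemi ⟨c x, hcY x⟩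
    have ha' : a' ≠ 0 := by
      intro h0
      obtain ⟨v, hv⟩ := exists_ne (0 : Additive M)
      refine hv ((c x).map_eq_zero_iff.mp (e.map_eq_zero_iff.mp ?_))
      rw [show e (c x v) = a' * σ (e v) from h v, h0, zero_mul]
    refine ⟨Units.mk0 a' ha', e (Additive.ofMul (⟨a, ha⟩ : M)), σ, fun u => ?_⟩
    obtain ⟨v, rfl⟩ := e.surjective u
    rw [hf ⟨a, ha⟩ x hx v, show e (c x v) = a' * σ (e v) from h v, add_comm]
    rfl
  let fK : N ⧸ K →* ↥(Cfsg.semiaffineGroup (GaloisField p n)) :=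
    QuotientGroup.lift K (f.codRestrict _ hfa) fun k hk => Subtype.ext ((hf1 k).mpr hk)
  have hfK : Function.Injective fK := by
    rw [injective_iff_map_eq_one]
    intro z hz
    obtain ⟨g, rfl⟩ := QuotientGroup.mk_surjective z
    exact (QuotientGroup.eq_one_iff g).mpr ((hf1 g).mp (congrArg Subtype.val hz))
  -- the order over two elements
  have hYcard : p = 2 → Nat.card (N ⧸ K) = p ^ n * Nat.card L.range := by
    rintro rfl
    haveI : Subsingleton (ZMod 2)ˣ := Finite.card_le_one_iff_subsingleton.mp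
      (by rw [Nat.card_units, Nat.card_zmod])
    let r : X →* L.range := (c.comp X.subtype).codRestrict _ fun x => hcY x
    have hr : Function.Surjective r := by
      rintro ⟨y, ⟨z, a⟩, rfl⟩
      obtain ⟨g, rfl⟩ := QuotientGroup.mk_surjective z
      obtain ⟨m, hm, x, hx, rfl⟩ := hdec g
      refine ⟨⟨x, hx⟩, Subtype.ext ?_⟩
      show c x = L _
      rw [hL, map_mul, hcM m hm, one_mul, Subsingleton.elim a 1, map_one, mul_one]
    have hker : Nat.card r.ker = Nat.card K := Nat.card_congr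
      { toFun := fun x => ⟨x.1.1, hXC.le ⟨x.1.2, congrArg Subtype.val x.2⟩⟩
        invFun := fun k => ⟨⟨k.1, (hXC.ge k.2).1⟩, Subtype.ext (hKc _ k.2)⟩
        left_inv := fun _ => rfl
        right_inv := fun _ => rfl }
    have h1 : Nat.card X = Nat.card L.range * Nat.card K := by
      rw [← hker, r.ker.card_eq_card_quotient_mul_card_subgroup,
        Nat.card_congr (QuotientGroup.quotientKerEquivOfSurjective r hr).toEquiv]
    have h2 := K.card_eq_card_quotient_mul_card_subgroup
    rw [← hX.card_mul, hcard, h1, ← mul_assoc] at h2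
    exact (Nat.eq_of_mul_eq_mul_right Nat.card_pos h2).symm
  rcases hdeg with rfl | ⟨rfl, rfl⟩
  · refine Or.inl ⟨rfl, ⟨fK, hfK⟩, ?_⟩
    rintro rfl
    have hG : Nat.card (GaloisField 2 3) = 2 ^ 3 := GaloisField.card 2 3 (by norm_num)
    letI : Fintype (GaloisField 2 3) := Fintype.ofFinite _
    obtain ⟨hdvd, hlin⟩ := semilinear_card (ρ := L.range.subtype)
      (Nat.card_eq_fintype_card.symm.trans hG) L.range.subtype_injective e hsemi
    obtain ⟨hsle, hale⟩ := card_semiaffine_le 2 3 (by norm_num)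
    have hN := hYcard rfl
    obtain ⟨t, ht⟩ := hvec
    have ht' : Nat.card L.range = 7 * t := ht
    have ht3 : t ∣ 3 := Nat.dvd_of_mul_dvd_mul_left (by norm_num : 0 < 7)
      (show 7 * t ∣ 7 * 3 from ht' ▸ (hdvd : Nat.card L.range ∣ 3 * (2 ^ 3 - 1)))
    simp only [show (2 : ℕ) ^ 3 = 8 from rfl, show (8 : ℕ) - 1 = 7 from rfl] at hsle hale hN
    rcases (Nat.dvd_prime (by norm_num : Nat.Prime 3)).mp ht3 with rfl | rfl
    · right
      have hA : ∀ g : N, f g ∈ Cfsg.affineGroup (GaloisField 2 3) := by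
        intro g
        obtain ⟨a, ha, x, hx, rfl⟩ := hdec g
        obtain ⟨a', h⟩ := hlin (by rw [ht']; norm_num) ⟨c x, hcY x⟩
        have ha' : a' ≠ 0 := by
          intro h0
          obtain ⟨v, hv⟩ := exists_ne (0 : Additive M)
          refine hv ((c x).map_eq_zero_iff.mp (e.map_eq_zero_iff.mp ?_))
          rw [show e (c x v) = a' * e v from h v, h0, zero_mul]
        refine ⟨Units.mk0 a' ha', e (Additive.ofMul (⟨a, ha⟩ : M)), fun u => ?_⟩
        obtain ⟨v, rfl⟩ := e.surjective u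
        rw [hf ⟨a, ha⟩ x hx v, show e (c x v) = a' * e v from h v, add_comm]
        rfl
      refine nonempty_mulEquiv_of_card
        (QuotientGroup.lift K (f.codRestrict _ hA) fun k hk => Subtype.ext ((hf1 k).mpr hk)) ?_ ?_
      · rw [injective_iff_map_eq_one]
        intro z hz
        obtain ⟨g, rfl⟩ := QuotientGroup.mk_surjective z
        exact (QuotientGroup.eq_one_iff g).mpr ((hf1 g).mp (congrArg Subtype.val hz))
      · rw [hN, ht']; omega
    · left
      refine nonempty_mulEquiv_of_card fK hfK ?_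
      rw [hN, ht']; omega
  · refine Or.inr ⟨rfl, rfl, ?_⟩
    obtain ⟨hsle, -⟩ := card_semiaffine_le 2 5 (by norm_num)
    have hN := hYcard rfl
    rw [h155 rfl rfl] at hN
    refine nonempty_mulEquiv_of_card fK hfK (hsle.trans (le_of_eq ?_))
    refine Eq.trans ?_ hN.symm
    norm_num

end CfsgLib.SubgroupTrans
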