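import Mathlib

/-!
Counting the subgroups of order `q ^ 2` in a vector space over the prime field, and the
divisibility they force on a group which permutes them transitively.
-/

set_option autoImplicit false
set_option linter.style.haveILetI false
set_option linter.unusedSectionVars false

namespace CfsgLib.SubgroupTrans

variable {q : ℕ} [hq : Fact q.Prime]

/-- The pairs spanning a subgroup of order `q ^ 2`. -/
def Pairs (V : Type*) [AddCommGroup V] : Type _ :=
  {x : V × V // x.1 ≠ 0 ∧ x.2 ∉ AddSubgroup.zmultiples x.1}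

variable {V : Type*} [AddCommGroup V] [Finite V]

theorem addOrderOf_eq (hexp : ∀ v : V, q • v = 0) {v : V} (hv : v ≠ 0) : addOrderOf v = q :=
  addOrderOf_eq_prime (hexp v) hv

theorem card_zmultiples (hexp : ∀ v : V, q • v = 0) {v : V} (hv : v ≠ 0) :
    Nat.card (AddSubgroup.zmultiples v) = q := by
  rw [Nat.card_zmultiples, addOrderOf_eq hexp hv]

theorem card_pairs (hexp : ∀ v : V, q • v = 0) :
    Nat.card (Pairs V) = (Nat.card V - 1) * (Nat.card V - q) := by
  classical
  haveI := Fintype.ofFinite V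
  let e : Pairs V ≃ Σ v : {v : V // v ≠ 0}, {w : V // w ∉ AddSubgroup.zmultiples (v : V)} :=
    { toFun := fun x => ⟨⟨x.1.1, x.2.1⟩, x.1.2, x.2.2⟩
      invFun := fun s => ⟨(s.1.1, s.2.1), s.1.2, s.2.2⟩
      left_inv := fun _ => rfl
      right_inv := fun _ => rfl }
  have hfib : ∀ v : {v : V // v ≠ 0},
      Nat.card {w : V // w ∉ AddSubgroup.zmultiples (v : V)} = Nat.card V - q := by
    intro v
    rw [← card_zmultiples hexp v.2, Nat.card_eq_fintype_card, Fintype.card_subtype_compl,
      Nat.card_eq_fintype_card, Nat.card_eq_fintype_card]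
  rw [Nat.card_congr e, Nat.card_sigma, Finset.sum_congr rfl fun v _ => hfib v, Finset.sum_const,
    Finset.card_univ, Fintype.card_subtype_compl, Fintype.card_subtype_eq, smul_eq_mul,
    Nat.card_eq_fintype_card]

theorem exp_zero [Module (ZMod q) V] (v : V) : q • v = 0 := by
  rw [← Nat.cast_smul_eq_nsmul (ZMod q), ZMod.natCast_self, zero_smul]

theorem card_closure_pair [Module (ZMod q) V] (x : Pairs V) :
    Nat.card (AddSubgroup.closure ({x.1.1, x.1.2} : Set V)) = q ^ 2 := by
  haveI : NeZero q := ⟨hq.out.ne_zero⟩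
  obtain ⟨⟨v, w⟩, hv, hw⟩ := x
  simp only at hv hw ⊢
  let f : (ZMod q × ZMod q) →ₗ[ZMod q] V :=
    LinearMap.coprod (LinearMap.toSpanSingleton (ZMod q) V v) (LinearMap.toSpanSingleton (ZMod q) V w)
  have hf : ∀ a b : ZMod q, f (a, b) = a • v + b • w := fun a b => rfl
  have hmem : ∀ (a : ZMod q) (u : V) (S : AddSubgroup V), u ∈ S → a • u ∈ S := by
    intro a u S hu
    rw [← ZMod.natCast_zmod_val a, Nat.cast_smul_eq_nsmul]
    exact nsmul_mem hu _
  have hinj : Function.Injective f := by
    rw [← LinearMap.ker_eq_bot, eq_bot_iff]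
    rintro ⟨a, b⟩ hab
    rw [LinearMap.mem_ker, hf] at hab
    rw [Submodule.mem_bot]
    have hb : b = 0 := by
      by_contra hb
      refine hw ?_
      have : w = (-(b⁻¹ * a)) • v := by
        rw [neg_smul, mul_smul, eq_neg_of_add_eq_zero_left hab, smul_neg, neg_neg, smul_smul,
          inv_mul_cancel₀ hb, one_smul]
      rw [this]
      exact hmem _ _ _ (AddSubgroup.mem_zmultiples v)
    subst hb
    rw [zero_smul, add_zero, smul_eq_zero] at hab
    exact Prod.ext (hab.resolve_right hv) rfl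
  have heq : (LinearMap.range f).toAddSubgroup = AddSubgroup.closure ({v, w} : Set V) := by
    apply le_antisymm
    · rintro u ⟨⟨a, b⟩, rfl⟩
      rw [hf]
      exact add_mem (hmem _ _ _ (AddSubgroup.subset_closure (Set.mem_insert _ _)))
        (hmem _ _ _ (AddSubgroup.subset_closure (Set.mem_insert_of_mem _ rfl)))
    · rw [AddSubgroup.closure_le]
      rintro u (rfl | rfl)
      · exact ⟨(1, 0), by rw [hf, one_smul, zero_smul, add_zero]⟩
      · exact ⟨(0, 1), by rw [hf, one_smul, zero_smul, zero_add]⟩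
  rw [← heq]
  refine (Nat.card_congr (LinearEquiv.ofInjective f hinj).toEquiv).symm.trans ?_
  rw [Nat.card_prod, Nat.card_zmod, pow_two]

/-- The number of subgroups of order `q ^ 2`. -/
theorem card_planes_mul [Module (ZMod q) V] :
    Nat.card {W : AddSubgroup V // Nat.card W = q ^ 2} * ((q ^ 2 - 1) * (q ^ 2 - q))
      = (Nat.card V - 1) * (Nat.card V - q) := by
  classical
  haveI := Fintype.ofFinite V
  have hexp : ∀ v : V, q • v = 0 := exp_zero
  haveI : Finite (Pairs V) := inferInstanceAs (Finite (Subtype _))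
  let P := {W : AddSubgroup V // Nat.card W = q ^ 2}
  haveI := Fintype.ofFinite P
  let π : Pairs V → P := fun x => ⟨_, card_closure_pair x⟩
  have hfib : ∀ W : P, Nat.card {x : Pairs V // π x = W} = (q ^ 2 - 1) * (q ^ 2 - q) := by
    intro W
    have hexpW : ∀ v : W.1, q • v = 0 := fun v => Subtype.ext (hexp v.1)
    have key := card_pairs (V := W.1) hexpW
    rw [W.2] at key
    rw [← key]
    have hsub : ∀ v w : W.1, w ∈ AddSubgroup.zmultiples v ↔ (w : V) ∈ AddSubgroup.zmultiples (v : V) := by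
      intro v w
      simp only [AddSubgroup.mem_zmultiples_iff, Subtype.ext_iff, AddSubgroup.coe_zsmul]
    have hin : ∀ x : {x : Pairs V // π x = W}, x.1.1.1 ∈ W.1 ∧ x.1.1.2 ∈ W.1 := by
      intro x
      have h : AddSubgroup.closure ({x.1.1.1, x.1.1.2} : Set V) = W.1 := congrArg Subtype.val x.2
      rw [← h]
      exact ⟨AddSubgroup.subset_closure (Set.mem_insert _ _),
        AddSubgroup.subset_closure (Set.mem_insert_of_mem _ rfl)⟩
    refine Nat.card_congr
      { toFun := fun x => ⟨(⟨x.1.1.1, (hin x).1⟩, ⟨x.1.1.2, (hin x).2⟩),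
          fun h => x.1.2.1 (congrArg Subtype.val h), fun h => x.1.2.2 ((hsub _ _).mp h)⟩
        invFun := fun y => ⟨⟨(y.1.1.1, y.1.2.1), fun h => y.2.1 (Subtype.ext h),
            fun h => y.2.2 ((hsub _ _).mpr h)⟩, Subtype.ext ?_⟩
        left_inv := fun x => rfl
        right_inv := fun y => rfl }
    refine AddSubgroup.eq_of_le_of_card_ge ((AddSubgroup.closure_le _).mpr ?_) (le_of_eq ?_)
    · rintro u (rfl | rfl)
      · exact y.1.1.2
      · exact y.1.2.2
    · rw [W.2]
      exact (card_closure_pair ⟨(y.1.1.1, y.1.2.1), fun h => y.2.1 (Subtype.ext h),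
        fun h => y.2.2 ((hsub _ _).mpr h)⟩).symm
  rw [← card_pairs hexp, Nat.card_congr (Equiv.sigmaFiberEquiv π).symm, Nat.card_sigma,
    Finset.sum_congr rfl fun W _ => hfib W, Finset.sum_const, Finset.card_univ, smul_eq_mul,
    Nat.card_eq_fintype_card (α := P)]

variable [Module (ZMod q) V] [Nontrivial V] {Y : Type*} [Group Y] [Finite Y]
  {ρ : Y →* (V ≃ₗ[ZMod q] V)}

/-- A group transitive on the subgroups of order `q ^ 2` and containing the scalars. -/
theorem planes_dvd (hρ : Function.Injective ρ)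
    (hscal : ∀ a : (ZMod q)ˣ, ∃ z, ∀ v : V, ρ z v = (a : ZMod q) • v)
    (htr : ∀ W W' : AddSubgroup V, Nat.card W = q ^ 2 → Nat.card W' = q ^ 2 →
      ∃ y, W.map (ρ y).toAddEquiv.toAddMonoidHom = W')
    (W₀ : AddSubgroup V) (hW₀ : Nat.card W₀ = q ^ 2) :
    Nat.card {W : AddSubgroup V // Nat.card W = q ^ 2} * (q - 1) ∣ Nat.card Y := by
  classical
  choose z hz using hscal
  have hzinj : Function.Injective z := by
    intro a b h
    obtain ⟨v, hv⟩ := exists_ne (0 : V)
    have := (hz a v).symm.trans ((congrArg (fun y => ρ y v) h).trans (hz b v))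
    exact Units.ext (smul_left_injective (ZMod q) hv this)
  let f : (ZMod q)ˣ →* Y :=
    { toFun := z
      map_one' := hρ (LinearEquiv.ext fun v => by rw [hz, map_one]; simp)
      map_mul' := fun a b => hρ (LinearEquiv.ext fun v => by
        rw [hz, map_mul, LinearEquiv.mul_apply, hz, hz, smul_smul]; rfl) }
  have hmap : ∀ (y : Y) (W : AddSubgroup V), Nat.card (W.map (ρ y).toAddEquiv.toAddMonoidHom) = Nat.card W :=
    fun y W => (Nat.card_congr (W.equivMapOfInjective _ (ρ y).toAddEquiv.injective).toEquiv).symm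
  letI : MulAction Y {W : AddSubgroup V // Nat.card W = q ^ 2} :=
    { smul := fun y W => ⟨W.1.map (ρ y).toAddEquiv.toAddMonoidHom, (hmap y W.1).trans W.2⟩
      one_smul := fun W => Subtype.ext (by
        show W.1.map (ρ 1).toAddEquiv.toAddMonoidHom = W.1
        rw [map_one]
        exact AddSubgroup.map_id W.1)
      mul_smul := fun a b W => Subtype.ext (by
        show W.1.map (ρ (a * b)).toAddEquiv.toAddMonoidHom =
          (W.1.map (ρ b).toAddEquiv.toAddMonoidHom).map (ρ a).toAddEquiv.toAddMonoidHom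
        rw [AddSubgroup.map_map, map_mul]
        rfl) }
  let w₀ : {W : AddSubgroup V // Nat.card W = q ^ 2} := ⟨W₀, hW₀⟩
  haveI : MulAction.IsPretransitive Y {W : AddSubgroup V // Nat.card W = q ^ 2} := ⟨fun a b => by
    obtain ⟨y, hy⟩ := htr a.1 b.1 a.2 b.2
    exact ⟨y, Subtype.ext hy⟩⟩
  have hle : f.range ≤ MulAction.stabilizer Y w₀ := by
    rintro y ⟨a, rfl⟩
    refine Subtype.ext (AddSubgroup.eq_of_le_of_card_ge ?_ (le_of_eq (hmap _ _).symm))
    rintro u ⟨v, hv, rfl⟩
    show ρ (z a) v ∈ W₀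
    rw [hz, ← ZMod.natCast_zmod_val (a : ZMod q), Nat.cast_smul_eq_nsmul]
    exact nsmul_mem hv _
  have hcard : Nat.card f.range = q - 1 := by
    rw [← Nat.card_congr (MonoidHom.ofInjective (f := f) hzinj).toEquiv, Nat.card_units, Nat.card_zmod]
  rw [← MulAction.index_stabilizer_of_transitive Y w₀, ← hcard,
    ← (MulAction.stabilizer Y w₀).index_mul_card]
  exact Nat.mul_dvd_mul_left _ (Subgroup.card_dvd_of_le hle)

end CfsgLib.SubgroupTrans
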